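import Mathlib
import Groth.Agent.ArtGrpLib.Component

/-! The scheme of connected components of a scheme locally of finite type over a field. -/

set_option autoImplicit false
set_option backward.isDefEq.respectTransparency false
universe u

open CategoryTheory CategoryTheory.Limits AlgebraicGeometry

namespace Groth.Agent.Pi0SchLib

variable {k : Type u} [Field k]

theorem isUnit_of_basicOpen {C : Scheme.{u}} {e : Γ(C, ⊤)} (h : C.basicOpen e = ⊤) : IsUnit e :=
  C.toRingedSpace.isUnit_of_isUnit_germ ⊤ e fun x _ =>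
    (Scheme.mem_basicOpen_top C e x).1 (by rw [h]; trivial)

theorem idem_trivial {C : Scheme.{u}} [ConnectedSpace ↥C] {e : Γ(C, ⊤)} (he : IsIdempotentElem e) :
    e = 0 ∨ e = 1 := by
  have he' : IsIdempotentElem (1 - e) := he.one_sub
  have hi : C.basicOpen e ⊓ C.basicOpen (1 - e) = ⊥ := by
    rw [← Scheme.basicOpen_mul, mul_sub, mul_one, he.eq, sub_self, Scheme.basicOpen_zero]
  have hu : (C.basicOpen e : Set C) ∪ C.basicOpen (1 - e) = Set.univ := by
    refine Set.eq_univ_of_forall fun x => ?_
    by_contra hx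
    simp only [Set.mem_union, SetLike.mem_coe, Scheme.mem_basicOpen_top, not_or] at hx
    have h : IsUnit (C.presheaf.germ ⊤ x trivial e + C.presheaf.germ ⊤ x trivial (1 - e)) := by
      rw [← map_add, add_sub_cancel, map_one]; exact isUnit_one
    rcases IsLocalRing.isUnit_or_isUnit_of_isUnit_add h with h | h
    · exact hx.1 h
    · exact hx.2 h
  have hc : IsClopen (C.basicOpen e : Set C) := by
    refine ⟨⟨?_⟩, (C.basicOpen e).isOpen⟩
    have : ((C.basicOpen e : Set C))ᶜ = C.basicOpen (1 - e) := by
      ext x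
      refine ⟨fun h => ((Set.eq_univ_iff_forall.1 hu x).resolve_left h), fun h h' => ?_⟩
      exact (show x ∈ (⊥ : C.Opens) from hi ▸ ⟨h', h⟩)
    rw [this]
    exact (C.basicOpen (1 - e)).isOpen
  rcases isClopen_iff.1 hc with h | h
  · left
    have h1 : C.basicOpen (1 - e) = ⊤ := by
      ext x
      exact ⟨fun _ => trivial, fun _ => (Set.eq_univ_iff_forall.1 hu x).resolve_left (by rw [h]; exact id)⟩
    have hunit : IsUnit (1 - e) := isUnit_of_basicOpen h1
    have h2 : (1 - e) = 1 := (IsIdempotentElem.iff_eq_one_of_isUnit hunit).1 he'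
    exact sub_eq_self.1 h2
  · right
    have h1 : C.basicOpen e = ⊤ := TopologicalSpace.Opens.ext (by rw [h]; rfl)
    exact (IsIdempotentElem.iff_eq_one_of_isUnit (isUnit_of_basicOpen h1)).1 he

/-- The image of an étale algebra in a ring without idempotents is a finite separable field. -/
theorem isField_range {A R : Type u} [CommRing A] [CommRing R] [Algebra k A] [Algebra k R] [Nontrivial R]
    (hR : ∀ e : R, IsIdempotentElem e → e = 0 ∨ e = 1) [Algebra.Etale k A] (f : A →ₐ[k] R) :
    IsField f.range ∧ Algebra.Etale k f.range := by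
  classical
  obtain ⟨I, _, Ai, _, _, e, hsep⟩ := (Algebra.FormallyEtale.iff_exists_algEquiv_prod k A).1 inferInstance
  haveI := Fintype.ofFinite I
  let g : (∀ i, Ai i) →ₐ[k] R := f.comp e.symm.toAlgHom
  obtain ⟨i, hi⟩ : ∃ i, g (Pi.single i 1) = 1 := by
    by_contra h
    push Not at h
    have h0 : ∀ i, g (Pi.single i 1) = 0 := fun i =>
      (hR _ (IsIdempotentElem.map (by
        show Pi.single i (1 : Ai i) * Pi.single i 1 = Pi.single i 1
        rw [← Pi.single_mul, one_mul]) g)).resolve_right (h i)
    have h1 : g 1 = 0 := by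
      rw [← Finset.univ_sum_single (1 : ∀ i, Ai i), map_sum]
      exact Finset.sum_eq_zero fun i _ => h0 i
    rw [map_one] at h1
    exact one_ne_zero h1
  have hg : ∀ a, g a = g (Pi.single i (a i)) := fun a => by
    have : a * Pi.single i 1 = Pi.single i (a i) := by
      ext j
      rcases eq_or_ne j i with rfl | hne
      · simp
      · simp [Pi.single_eq_of_ne hne]
    rw [← this, map_mul, hi, mul_one]
  let φ : Ai i →ₐ[k] R :=
    { toFun := fun x => g (Pi.single i x)
      map_one' := hi
      map_mul' := fun x y => by rw [← map_mul, ← Pi.single_mul]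
      map_zero' := by rw [Pi.single_zero, map_zero]
      map_add' := fun x y => by rw [← map_add, ← Pi.single_add]
      commutes' := fun c => by
        refine ((hg (algebraMap k (∀ j, Ai j) c)).symm.trans (g.commutes c)) }
  have hrange : f.range = φ.range := by
    ext r
    constructor
    · rintro ⟨a, rfl⟩
      refine ⟨e a i, ?_⟩
      show g (Pi.single i (e a i)) = f a
      rw [← hg]
      exact congrArg f (e.symm_apply_apply a)
    · rintro ⟨x, rfl⟩
      exact ⟨e.symm (Pi.single i x), rfl⟩
  let E : Ai i ≃ₐ[k] φ.range := AlgEquiv.ofInjective φ φ.toRingHom.injective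
  haveI : Algebra.IsSeparable k (Ai i) := hsep i
  haveI : Module.Finite k A := Algebra.FormallyUnramified.finite_of_free k A
  haveI : Module.Finite k (Ai i) :=
    Module.Finite.of_surjective ((Pi.evalAlgHom k Ai i).comp e.toAlgHom).toLinearMap
      (fun x => ⟨e.symm (Pi.single i x), by simp⟩)
  rw [hrange]
  haveI : Algebra.FormallyEtale k (Ai i) := Algebra.FormallyEtale.of_isSeparable k (Ai i)
  haveI : Algebra.FinitePresentation k (Ai i) := Algebra.FinitePresentation.of_finiteType.1 inferInstance
  haveI : Algebra.Etale k (Ai i) := ⟨inferInstance, inferInstance⟩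
  exact ⟨MulEquiv.isField (Field.toIsField (Ai i)) E.symm.toMulEquiv,
    Algebra.Etale.of_equiv (A := Ai i) E⟩

/-- The étale closure of the ground field in a ring without idempotents. -/
theorem exists_max {R : Type u} [CommRing R] [Algebra k R]
    (hR : ∀ e : R, IsIdempotentElem e → e = 0 ∨ e = 1)
    (K : Type u) [Field K] [Algebra k K] [Module.Finite k K] (ev : R →ₐ[k] K) :
    ∃ L : Subalgebra k R, IsField L ∧ Algebra.Etale k L ∧
      ∀ (A : Type u) [CommRing A] [Algebra k A] [Algebra.Etale k A] (f : A →ₐ[k] R), f.range ≤ L := by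
  haveI : Nontrivial R := ev.toRingHom.domain_nontrivial
  classical
  let S : Set (Subalgebra k R) := {L | IsField L ∧ Algebra.Etale k L}
  have hdeg : ∀ L ∈ S, Module.finrank k L ≤ Module.finrank k K := fun L hL => by
    letI := hL.1.toField
    exact LinearMap.finrank_le_finrank_of_injective (f := (ev.comp L.val).toLinearMap)
      (ev.comp L.val).toRingHom.injective
  have hne : ∃ n, ∃ L ∈ S, Module.finrank k L = n :=
    ⟨_, _, isField_range (k := k) hR (Algebra.ofId k R), rfl⟩
  obtain ⟨n, ⟨L, hL, rfl⟩, hmax⟩ : ∃ n, (∃ L ∈ S, Module.finrank k L = n) ∧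
      ∀ m, (∃ L ∈ S, Module.finrank k L = m) → m ≤ n := by
    obtain ⟨n₀, L₀, hL₀, e₀⟩ := hne
    refine ⟨Nat.findGreatest (fun n => ∃ L ∈ S, Module.finrank k L = n) (Module.finrank k K), ?_, ?_⟩
    · exact Nat.findGreatest_spec (P := fun n => ∃ L ∈ S, Module.finrank k L = n)
        (e₀ ▸ hdeg _ hL₀) ⟨L₀, hL₀, e₀⟩
    · rintro m ⟨L', hL', rfl⟩
      exact Nat.le_findGreatest (hdeg _ hL') ⟨L', hL', rfl⟩
  refine ⟨L, hL.1, hL.2, fun A _ _ _ f => ?_⟩
  obtain ⟨hfF, hfE⟩ := isField_range hR f
  haveI := hL.2
  haveI := hfE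
  haveI : Algebra.Etale k (TensorProduct k ↥L ↥f.range) :=
    Algebra.Etale.comp k ↥L (TensorProduct k ↥L ↥f.range)
  let m := Algebra.TensorProduct.productMap L.val f.range.val
  have hm := isField_range hR m
  have hsup : m.range = L ⊔ f.range := by
    rw [Algebra.TensorProduct.productMap_range, Subalgebra.range_val, Subalgebra.range_val]
  haveI := hm.2
  have h1 : L ≤ m.range := hsup ▸ le_sup_left
  haveI : Module.Finite k m.range := Algebra.FormallyUnramified.finite_of_free k m.range
  have h2 := hmax _ ⟨m.range, hm, rfl⟩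
  have h3 : L.toSubmodule = m.range.toSubmodule := by
    haveI : FiniteDimensional k (Subalgebra.toSubmodule m.range) := ‹Module.Finite k m.range›
    exact Submodule.eq_of_le_of_finrank_le h1 h2
  have h4 : L = m.range := Subalgebra.toSubmodule_injective h3
  rw [h4, hsup]
  exact le_sup_right

end Groth.Agent.Pi0SchLib
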