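import Mathlib
import Groth.Agent.Pi0SchLib.Basic
import Groth.Agent.EtFibCard.Basic

/-! The universal map of a connected scheme to an étale scheme over a field. -/

set_option autoImplicit false
set_option backward.isDefEq.respectTransparency false
universe u

open CategoryTheory CategoryTheory.Limits AlgebraicGeometry

namespace Groth.Agent.Pi0SchLib

variable {k : Type u} [Field k]

theorem toSpecΓ_map_injective {C : Scheme.{u}} {A : CommRingCat.{u}} {a b : A ⟶ Γ(C, ⊤)}
    (h : C.toSpecΓ ≫ Spec.map a = C.toSpecΓ ≫ Spec.map b) : a = b := by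
  have := congrArg (fun φ => (Scheme.ΓSpecIso A).inv ≫ φ.appTop) h
  simpa using this

theorem exists_component (C : Scheme.{u}) [ConnectedSpace ↥C] (f : C ⟶ Spec (CommRingCat.of k))
    [LocallyOfFiniteType f] :
    ∃ (L : CommRingCat.{u}) (_ : IsField L) (ι : CommRingCat.of k ⟶ L) (π : C ⟶ Spec L),
      Etale (Spec.map ι) ∧ π ≫ Spec.map ι = f ∧
      ∀ (Y : Scheme.{u}) (gY : Y ⟶ Spec (CommRingCat.of k)) (h : C ⟶ Y), Etale gY → h ≫ gY = f →
        ∃! t : Spec L ⟶ Y, t ≫ gY = Spec.map ι ∧ π ≫ t = h := by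
  let σ : CommRingCat.of k ⟶ Γ(C, ⊤) := (Scheme.ΓSpecIso (CommRingCat.of k)).inv ≫ f.appTop
  have hf : f = C.toSpecΓ ≫ Spec.map σ := by
    apply ext_to_Spec
    simp [σ]
  letI : Algebra k Γ(C, ⊤) := σ.hom.toAlgebra
  haveI : IsLocallyNoetherian C := LocallyOfFiniteType.isLocallyNoetherian f
  haveI : JacobsonSpace C := LocallyOfFiniteType.jacobsonSpace f
  obtain ⟨x, hx⟩ : ∃ x : C, IsClosed ({x} : Set C) := by
    obtain ⟨x, -, hx⟩ := nonempty_inter_closedPoints (Set.univ_nonempty (α := ↥C)) isOpen_univ.isLocallyClosed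
    exact ⟨x, hx⟩
  haveI : LocallyOfFiniteType (C.fromSpecResidueField x) := isClosed_singleton_iff_locallyOfFiniteType.1 hx
  let ev₀ : Γ(C, ⊤) ⟶ C.residueField x := C.Γevaluation x
  letI : Algebra k (C.residueField x) := (σ ≫ ev₀).hom.toAlgebra
  let ev : Γ(C, ⊤) →ₐ[k] C.residueField x := { ev₀.hom with commutes' := fun _ => rfl }
  haveI : Module.Finite k (C.residueField x) := by
    haveI : Algebra.FiniteType k (C.residueField x) := by
      refine RingHom.finiteType_algebraMap.1 ?_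
      rw [RingHom.algebraMap_toAlgebra, ← HasRingHomProperty.Spec_iff (P := @LocallyOfFiniteType)]
      have e : Spec.map (σ ≫ ev₀) = C.fromSpecResidueField x ≫ f := by
        rw [hf, Spec.map_comp, ← Category.assoc]
        congr 1
        simp [ev₀, Scheme.fromSpecResidueField, Scheme.Γevaluation, Scheme.evaluation, Scheme.fromSpecStalk_toSpecΓ]
      rw [e]
      infer_instance
    exact finite_of_finite_type_of_isJacobsonRing k _
  obtain ⟨L, hLF, hLE, hmax⟩ := exists_max (k := k) (fun e he => idem_trivial he) (C.residueField x) ev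
  letI := hLF.toField
  haveI := hLE
  refine ⟨CommRingCat.of L, hLF, CommRingCat.ofHom (algebraMap k L),
    C.toSpecΓ ≫ Spec.map (CommRingCat.ofHom L.val.toRingHom), ?_, ?_, ?_⟩
  · exact (HasRingHomProperty.Spec_iff (P := @Etale)).2 (RingHom.etale_algebraMap.2 hLE)
  · rw [Category.assoc, ← Spec.map_comp, hf]
    rfl
  intro Y gY h hE hh
  haveI := hE
  have hdisc : ∀ y : Y, IsOpen ({y} : Set Y) := by
    haveI : LocallyQuasiFinite gY := Groth.Agent.EtFibCard.locallyQuasiFinite_of_etale gY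
    have := gY.isDiscrete_preimage_singleton default
    rw [show gY ⁻¹' {default} = Set.univ from Set.eq_univ_of_forall fun y => Subsingleton.elim _ _] at this
    haveI : DiscreteTopology ↥Y := by
      have h1 := this.to_subtype
      exact (Homeomorph.Set.univ ↥Y).symm.isEmbedding.discreteTopology
    exact fun y => isOpen_discrete _
  haveI : Nonempty ↥C := inferInstance
  let y := h (Classical.arbitrary ↥C)
  have hy : ∀ c, h c = y := fun c => by
    haveI : DiscreteTopology ↥Y := discreteTopology_iff_isOpen_singleton.2 hdisc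
    exact PreconnectedSpace.constant (α := ↥C) inferInstance h.continuous
  let W : Y.Opens := ⟨{y}, hdisc y⟩
  have hW : IsAffineOpen W := IsAffineOpen.of_subsingleton Set.subsingleton_singleton
  haveI : IsAffine W.toScheme := hW
  have hr : Set.range h ⊆ Set.range W.ι := by
    rintro _ ⟨c, rfl⟩
    rw [Scheme.Opens.range_ι]
    exact hy c
  let h' := IsOpenImmersion.lift W.ι h hr
  have hh' : h' ≫ W.ι = h := IsOpenImmersion.lift_fac _ _ _
  let gW := W.ι ≫ gY
  let τ : CommRingCat.of k ⟶ Γ(W.toScheme, ⊤) := (Scheme.ΓSpecIso (CommRingCat.of k)).inv ≫ gW.appTop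
  have hgW : gW = W.toScheme.toSpecΓ ≫ Spec.map τ := by
    apply ext_to_Spec
    simp [τ]
  letI : Algebra k Γ(W.toScheme, ⊤) := τ.hom.toAlgebra
  haveI : Algebra.Etale k Γ(W.toScheme, ⊤) := by
    refine RingHom.etale_algebraMap.1 ?_
    rw [RingHom.algebraMap_toAlgebra, ← HasRingHomProperty.Spec_iff (P := @Etale),
      ← MorphismProperty.cancel_left_of_respectsIso @Etale W.toScheme.toSpecΓ, ← hgW]
    infer_instance
  let ψ : Γ(W.toScheme, ⊤) →ₐ[k] Γ(C, ⊤) :=
    { h'.appTop.hom with
      commutes' := fun c => by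
        show (τ ≫ h'.appTop).hom c = σ.hom c
        simp only [τ, σ, gW, Category.assoc, ← Scheme.Hom.comp_appTop]
        rw [← Category.assoc h', hh', hh] }
  have hψ : ψ.range ≤ L := hmax _ ψ
  let χ : Γ(W.toScheme, ⊤) →ₐ[k] L := ψ.codRestrict L fun a => hψ ⟨a, rfl⟩
  have hχ : CommRingCat.ofHom χ.toRingHom ≫ CommRingCat.ofHom L.val.toRingHom = h'.appTop := by
    ext a; rfl
  let t : Spec (CommRingCat.of L) ⟶ Y := Spec.map (CommRingCat.ofHom χ.toRingHom) ≫ inv W.toScheme.toSpecΓ ≫ W.ι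
  have ht : t ≫ gY = Spec.map (CommRingCat.ofHom (algebraMap k L)) := by
    simp only [t, Category.assoc]
    rw [show W.ι ≫ gY = gW from rfl, hgW, IsIso.inv_hom_id_assoc, ← Spec.map_comp]
    congr 1
    ext c
    exact congrArg Subtype.val (χ.commutes c)
  have ht' : (C.toSpecΓ ≫ Spec.map (CommRingCat.ofHom L.val.toRingHom)) ≫ t = h := by
    simp only [t, Category.assoc]
    rw [← Spec.map_comp_assoc, hχ, ← Scheme.toSpecΓ_naturality_assoc, IsIso.hom_inv_id_assoc, hh']
  refine ⟨t, ⟨ht, ht'⟩, fun t' ⟨_, ht'2⟩ => ?_⟩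
  have hrt : Set.range t' ⊆ Set.range W.ι := by
    rintro _ ⟨s, rfl⟩
    rw [Scheme.Opens.range_ι]
    haveI : Subsingleton ↥(Spec (CommRingCat.of L)) := inferInstanceAs (Subsingleton (PrimeSpectrum L))
    show t' s = y
    rw [Subsingleton.elim s ((C.toSpecΓ ≫ Spec.map (CommRingCat.ofHom L.val.toRingHom)) (Classical.arbitrary ↥C)),
      ← Scheme.Hom.comp_apply, ht'2]
  let t₁ := IsOpenImmersion.lift W.ι t' hrt
  obtain ⟨ρ, hρ⟩ := Spec.map_surjective (t₁ ≫ W.toScheme.toSpecΓ)
  have key : ρ ≫ CommRingCat.ofHom L.val.toRingHom = h'.appTop := by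
    apply toSpecΓ_map_injective
    rw [← Scheme.toSpecΓ_naturality, Spec.map_comp, hρ]
    simp only [← Category.assoc]
    congr 1
    rw [← cancel_mono W.ι, Category.assoc _ t₁, IsOpenImmersion.lift_fac, hh']
    exact ht'2
  have hρχ : ρ = CommRingCat.ofHom χ.toRingHom := by
    haveI : Mono (CommRingCat.ofHom L.val.toRingHom) :=
      ConcreteCategory.mono_of_injective _ Subtype.val_injective
    rw [← cancel_mono (CommRingCat.ofHom L.val.toRingHom), key, hχ]
  rw [show t' = (t₁ ≫ W.toScheme.toSpecΓ) ≫ inv W.toScheme.toSpecΓ ≫ W.ι by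
    rw [Category.assoc, IsIso.hom_inv_id_assoc, IsOpenImmersion.lift_fac], ← hρ, hρχ]

end Groth.Agent.Pi0SchLib
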